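import Groth.Agent.H21.FMTrans.Derived
import Groth.Agent.Lib.DerivedOX.PullComp
import Groth.Agent.Lib.DerivedOX.BCLoc
import Groth.Agent.Lib.DerivedOX.BCTorInd
import Groth.Agent.Lib.DerivedOX.BCFlat
import Groth.Agent.Lib.DerivedOX.TensorSymm
import Groth.Agent.Lib.Cyc.CH.FiltTensor
import Groth.Agent.Lib.TensorMod.QCohInv

/-!
# Base change for integral transforms with invertible kernels

`Lf^*` commutes with twists for arbitrary `f`, and a transform pushed forward along `f` is the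
transform pulled back along the transpose.
-/

set_option autoImplicit false
set_option linter.style.haveILetI false
universe u

open CategoryTheory CategoryTheory.Limits AlgebraicGeometry

attribute [local instance] HasDerivedCategory.standard

namespace Groth.Agent.H21.FMTrans

open Groth.Agent.Lib Groth.Agent.Lib.DerivedOX
open Groth.Agent.Lib.DerivedOX.PullTranspose (pullC counitCx)

attribute [local instance] Groth.Agent.Lib.DerivedOX.LeftExists.hasLpull
  Groth.Agent.Lib.DerivedOX.Exists.hasRpush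

noncomputable section

variable {X Y : Scheme.{u}}

/-- `M ⊗ -` is `- ⊗ M`. -/
def tensorBiIso (M : X.Modules) : DCoh.tensorBi.obj M ≅ DCoh.tensorRightMod M :=
  NatIso.ofComponents (fun N => TensorMod.Basic.comm M N) fun {N N'} b => by
    rw [PullTensor.tensorBi_obj_map, tensorRightMod_map]
    exact TensorMod.Basic.comm_natural (𝟙 M) b

/-- A K-flat complex twisted by an invertible module is K-flat. -/
theorem isKFlat_twist {M : X.Modules} (hM : PicF.IsInvertible M) {P : CochainComplex X.Modules ℤ}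
    (hP : DCoh.IsKFlat P) :
    DCoh.IsKFlat (((DCoh.tensorRightMod M).mapHomologicalComplex (.up ℤ)).obj P) := by
  have hs : DCoh.IsKFlat ((HomologicalComplex.single X.Modules (ComplexShape.up ℤ) 0).obj M) :=
    GammaAcyclic.isKFlat_single (fun x => Cyc.CH.isFlat_of_isInvertible hM x) 0
  have h := PullTensor.isKFlat_tensor hs hP
  let e : ((DCoh.tensorRightMod M).mapHomologicalComplex (.up ℤ)).obj P ≅
      (DCoh.tensorCx.obj ((HomologicalComplex.single X.Modules (ComplexShape.up ℤ) 0).obj M)).obj P :=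
    (NatIso.mapHomologicalComplex (tensorBiIso M).symm (.up ℤ)).app P ≪≫
      (SingleTensor.singleZeroIso DCoh.tensorBi M).app P
  exact fun L hL i => (h L hL i).of_iso
    ((HomologicalComplex.homologyFunctor X.Modules (ComplexShape.up ℤ) i).mapIso
      ((DCoh.tensorCx.obj L).mapIso e))

/-- Resolving does not change the image in the derived category. -/
def resQ (X : Scheme.{u}) : KFlat.res X ⋙ DerivedCategory.Q ≅ DerivedCategory.Q :=
  haveI : ∀ K, IsIso ((Functor.whiskerRight (KFlat.aug X) DerivedCategory.Q).app K) := fun K => by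
    haveI := KFlat.quasiIso_aug K
    exact inferInstanceAs (IsIso (DerivedCategory.Q.map ((KFlat.aug X).app K)))
  haveI := NatIso.isIso_of_isIso_app (Functor.whiskerRight (KFlat.aug X) DerivedCategory.Q)
  asIso (Functor.whiskerRight (KFlat.aug X) DerivedCategory.Q) ≪≫ Functor.leftUnitor _

/-- `Lf^*` commutes with twists. -/
def lpullTd (f : X ⟶ Y) [DCoh.HasLpull f] {M : Y.Modules} (hM : PicF.IsInvertible M) {M' : X.Modules}
    (hM' : PicF.IsInvertible M') (e : (Scheme.Modules.pullback f).obj M ≅ M') :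
    Td M hM ⋙ DCoh.Lpull f ≅ DCoh.Lpull f ⋙ Td M' hM' :=
  haveI := isEquivalence_tensor hM
  haveI := isEquivalence_tensor hM'
  letI TC := (DCoh.tensorRightMod M).mapHomologicalComplex (.up ℤ)
  letI TC' := (DCoh.tensorRightMod M').mapHomologicalComplex (.up ℤ)
  haveI h₁ : IsIso (Functor.whiskerLeft (KFlat.res Y) (counitCx f)) :=
    haveI : ∀ K, IsIso ((Functor.whiskerLeft (KFlat.res Y) (counitCx f)).app K) := fun K =>
      PullTranspose.isIso_counitCx f (KFlat.isKFlat_res K)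
    NatIso.isIso_of_isIso_app _
  haveI h₂ : IsIso (Functor.whiskerLeft (KFlat.res Y ⋙ TC) (counitCx f)) :=
    haveI : ∀ K, IsIso ((Functor.whiskerLeft (KFlat.res Y ⋙ TC) (counitCx f)).app K) := fun K =>
      PullTranspose.isIso_counitCx f (isKFlat_twist hM (KFlat.isKFlat_res K))
    NatIso.isIso_of_isIso_app _
  let γ : TC ⋙ pullC f ≅ pullC f ⋙ TC' :=
    NatIso.mapHomologicalComplex (pullTensor f M ≪≫ Functor.isoWhiskerLeft _ (tensorCongr e)) (.up ℤ)
  let a₁ : DerivedCategory.Q ⋙ Td M hM ⋙ DCoh.Lpull f ≅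
      KFlat.res Y ⋙ TC ⋙ pullC f ⋙ DerivedCategory.Q :=
    Functor.isoWhiskerRight (resQ Y).symm _ ≪≫ Functor.associator _ _ _ ≪≫
      Functor.isoWhiskerLeft (KFlat.res Y) ((Functor.associator _ _ _).symm ≪≫
        Functor.isoWhiskerRight (DCoh.tensorRightMod M).mapDerivedCategoryFactors _ ≪≫
        Functor.associator _ _ _) ≪≫
      (Functor.associator _ _ _).symm ≪≫
      asIso (Functor.whiskerLeft (KFlat.res Y ⋙ TC) (counitCx f)) ≪≫ Functor.associator _ _ _
  let a₂ : DerivedCategory.Q ⋙ DCoh.Lpull f ⋙ Td M' hM' ≅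
      KFlat.res Y ⋙ pullC f ⋙ TC' ⋙ DerivedCategory.Q :=
    (Functor.associator _ _ _).symm ≪≫
      Functor.isoWhiskerRight (Functor.isoWhiskerRight (resQ Y).symm _ ≪≫ Functor.associator _ _ _ ≪≫
        asIso (Functor.whiskerLeft (KFlat.res Y) (counitCx f))) _ ≪≫
      Functor.associator _ _ _ ≪≫ Functor.isoWhiskerLeft (KFlat.res Y) (Functor.associator _ _ _ ≪≫
        Functor.isoWhiskerLeft (pullC f) (DCoh.tensorRightMod M').mapDerivedCategoryFactors)
  let a : DerivedCategory.Q ⋙ Td M hM ⋙ DCoh.Lpull f ≅ DerivedCategory.Q ⋙ DCoh.Lpull f ⋙ Td M' hM' :=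
    a₁ ≪≫ Functor.isoWhiskerLeft (KFlat.res Y) ((Functor.associator _ _ _).symm ≪≫
      Functor.isoWhiskerRight γ _ ≪≫ Functor.associator _ _ _) ≪≫ a₂.symm
  letI : Localization.Lifting DerivedCategory.Q (HomologicalComplex.quasiIso Y.Modules (.up ℤ))
      (DerivedCategory.Q ⋙ Td M hM ⋙ DCoh.Lpull f) (Td M hM ⋙ DCoh.Lpull f) := ⟨Iso.refl _⟩
  letI : Localization.Lifting DerivedCategory.Q (HomologicalComplex.quasiIso Y.Modules (.up ℤ))
      (DerivedCategory.Q ⋙ DCoh.Lpull f ⋙ Td M' hM') (DCoh.Lpull f ⋙ Td M' hM') := ⟨Iso.refl _⟩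
  Localization.liftNatIso DerivedCategory.Q (HomologicalComplex.quasiIso Y.Modules (.up ℤ))
    (DerivedCategory.Q ⋙ Td M hM ⋙ DCoh.Lpull f) (DerivedCategory.Q ⋙ DCoh.Lpull f ⋙ Td M' hM') _ _ a

/-- The projection formula for an invertible module along an arbitrary morphism. -/
def projIsoL (p : X ⟶ Y) [DCoh.HasRpush p] {N : Y.Modules} (hN : PicF.IsInvertible N) {M : X.Modules}
    (hM : PicF.IsInvertible M) (e : (Scheme.Modules.pullback p).obj N ≅ M) :
    Td M hM ⋙ DCoh.Rpush p ≅ DCoh.Rpush p ⋙ Td N hN :=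
  let N' := (Groth.Agent.Lib.TensorMod.Invertible.exists_inverse hN).choose
  have hN' : PicF.IsInvertible N' :=
    (Groth.Agent.Lib.TensorMod.Invertible.exists_inverse hN).choose_spec.1
  let ε : CohB1.tensorMod N N' ≅ Coh.structureModule Y :=
    (Groth.Agent.Lib.TensorMod.Invertible.exists_inverse hN).choose_spec.2.some
  have hpN' : PicF.IsInvertible ((Scheme.Modules.pullback p).obj N') := PicLoc.isInvertible_pullback p hN'
  let ε' : CohB1.tensorMod ((Scheme.Modules.pullback p).obj N') M ≅ Coh.structureModule X :=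
    TensorMod.Basic.tensorIso (Iso.refl _) e.symm ≪≫
      (TensorMod.Pullback.pullbackTensorIso p N' N).symm ≪≫
      (Scheme.Modules.pullback p).mapIso (TensorMod.Basic.comm N' N ≪≫ ε) ≪≫
      PicLoc.pullbackStructureIso p
  ((PullPushAdj.derivedAdjunction p).comp (tdAdj hpN' hM ε')).rightAdjointUniq
    (((tdAdj hN' hN (TensorMod.Basic.comm N' N ≪≫ ε)).comp (PullPushAdj.derivedAdjunction p)).ofNatIsoLeft
      (lpullTd p hN' hpN' (Iso.refl _)))

/-- Equal morphisms have the same derived pullback. -/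
def lpullCongr {f g : X ⟶ Y} [DCoh.HasLpull f] [DCoh.HasLpull g] (h : f = g) :
    DCoh.Lpull f ≅ DCoh.Lpull g :=
  eqToIso (by subst h; rfl)

/-- Equal morphisms have the same derived direct image. -/
def rpushCongr {f g : X ⟶ Y} [DCoh.HasRpush f] [DCoh.HasRpush g] (h : f = g) :
    DCoh.Rpush f ≅ DCoh.Rpush g :=
  eqToIso (by subst h; rfl)

/-- Twists preserve quasi-coherent cohomology. -/
theorem isQCohD_Td {M : X.Modules} (hM : PicF.IsInvertible M) {K : DCoh.D X} (hK : DCoh.IsQCohD K) :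
    DCoh.IsQCohD ((Td M hM).obj K) := fun i => by
  haveI := isEquivalence_tensor hM
  obtain ⟨P, hP, ⟨eP⟩⟩ := QCohLocal.exists_kflat K
  have hPq : DCoh.IsQCohD (DerivedCategory.Q.obj P) := fun i =>
    (Groth.Agent.Lib.WayOut.Scheme.qc _).prop_of_iso
      ((DerivedCategory.homologyFunctor _ i).mapIso eP.symm) (hK i)
  exact (Groth.Agent.Lib.WayOut.Scheme.qc _).prop_of_iso
    ((DerivedCategory.homologyFunctor _ i).mapIso
      (((DCoh.tensorRightMod M).mapDerivedCategoryFactors.app P).symm ≪≫ (Td M hM).mapIso eP))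
    (BCTens.isQCohD_tens M (TensorMod.QCohInv.isQCoh_of_isInvertible hM) hP hPq i)

variable {S S' X' : Scheme.{u}}

/-- Base change of a flat morphism along an arbitrary one. -/
theorem isIso_bcD_of_flat (f : X ⟶ S) [Flat f] [QuasiCompact f] [QuasiSeparated f] (g : S' ⟶ S)
    (f' : X' ⟶ S') (g' : X' ⟶ X) [DCoh.HasRpush f] [DCoh.HasLpull g] [DCoh.HasRpush f']
    [DCoh.HasLpull g'] (hsq : IsPullback g' f' f g) (E : DCoh.D X) (hE : DCoh.IsQCohD E) :
    IsIso ((BCSquare.bcD f g f' g' hsq.w).app E) := by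
  obtain ⟨P, hP, ⟨eP⟩⟩ := QCohLocal.exists_kflat E
  have hPq : DCoh.IsQCohD (DerivedCategory.Q.obj P) := fun i =>
    (Groth.Agent.Lib.WayOut.Scheme.qc _).prop_of_iso
      ((DerivedCategory.homologyFunctor _ i).mapIso eP.symm) (hE i)
  have hT : BCLoc.TorLoc f g (Coh.structureModule X) := fun U hU U' hU' eU V hV eV =>
    ⟨ModuleCat.of Γ(X, V) Γ(X, V), ⟨tildeSelf ≪≫ (PicLoc.pullbackStructureIso hV.fromSpec).symm⟩,
      BCAlg.torInd_of_flat _ _ _ (f.flat_appLE hU hV eV)⟩
  haveI : IsIso ((BCCube.ψ f g f' g' hsq.w).app ((Amplitude.tens (Coh.structureModule X)).obj P)) :=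
    BCLoc.isIso_ψ_tens hsq _ (TensorMod.QCohInv.isQCoh_structureModule X) hT P hP hPq
  let u : (Amplitude.tens (Coh.structureModule X)).obj P ≅ P :=
    (NatIso.mapHomologicalComplex tensorUnit (.up ℤ)).app P ≪≫
      (Functor.mapHomologicalComplexIdIso _ _).app P
  haveI h1 : IsIso ((BCCube.ψ f g f' g' hsq.w).app P) :=
    (NatTrans.isIso_app_iff_of_iso (BCCube.ψ f g f' g' hsq.w) u).1 inferInstance
  haveI := PullTranspose.isIso_counitCx g' hP
  haveI : IsIso ((BCSquare.bcD f g f' g' hsq.w).app (DerivedCategory.Q.obj P)) := by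
    dsimp only [BCCube.ψ] at h1
    exact @IsIso.of_isIso_comp_right _ _ _ _ _ _
      ((DCoh.Rpush f').map ((PullTranspose.counitCx g').app P)) inferInstance h1
  exact (NatTrans.isIso_app_iff_of_iso (BCSquare.bcD f g f' g' hsq.w) eP).1 inferInstance

section Transpose

variable {A At B Bt WA WB W : Scheme.{u}}

/-- Pushing forward before transforming is pulling back the transform along the transpose. -/
theorem transform_push (f : A ⟶ B) [QuasiCompact f] [QuasiSeparated f] (ft : Bt ⟶ At)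
    (pA : WA ⟶ A) (qA : WA ⟶ At) [Flat qA] [QuasiCompact qA] [QuasiSeparated qA]
    (pB : WB ⟶ B) (qB : WB ⟶ Bt) [Flat pB] (u : W ⟶ A) (q : W ⟶ Bt) (w : W ⟶ WB) (v : W ⟶ WA)
    (hu : v ≫ pA = u) (hq : w ≫ qB = q) (sq₁ : IsPullback u w f pB) (sq₂ : IsPullback v q qA ft)
    (PA : WA.Modules) (hPA : PicF.IsInvertible PA) (PB : WB.Modules) (hPB : PicF.IsInvertible PB)
    (e : (Scheme.Modules.pullback w).obj PB ≅ (Scheme.Modules.pullback v).obj PA)
    [DCoh.HasLpull pA] [DCoh.HasLTensorMod PA] [DCoh.HasRpush qA]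
    [DCoh.HasLpull pB] [DCoh.HasLTensorMod PB] [DCoh.HasRpush qB]
    [DCoh.HasRpush f] [DCoh.HasLpull ft] :
    Nonempty (ObjectProperty.ι (DCoh.IsQCohD (X := A)) ⋙ DCoh.Rpush f ⋙
        (DCoh.Lpull pB ⋙ DCoh.LTensorMod PB ⋙ DCoh.Rpush qB) ≅
      ObjectProperty.ι (DCoh.IsQCohD (X := A)) ⋙
        (DCoh.Lpull pA ⋙ DCoh.LTensorMod PA ⋙ DCoh.Rpush qA) ⋙ DCoh.Lpull ft) := by
  let J := ObjectProperty.ι (DCoh.IsQCohD (X := A))
  have hM : PicF.IsInvertible ((Scheme.Modules.pullback v).obj PA) := PicLoc.isInvertible_pullback v hPA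
  let T := Td _ hM
  let JA := J ⋙ DCoh.Lpull pA ⋙ Td PA hPA
  haveI h₁ : IsIso (Functor.whiskerLeft J (BCSquare.bcD f pB w u sq₁.w)) :=
    haveI : ∀ K, IsIso ((Functor.whiskerLeft J (BCSquare.bcD f pB w u sq₁.w)).app K) := fun K =>
      BCFlat.isIso_bcD f pB w u sq₁.w sq₁ _ K.property
    NatIso.isIso_of_isIso_app _
  haveI h₂ : IsIso (Functor.whiskerLeft JA (BCSquare.bcD qA ft q v sq₂.w)) :=
    haveI : ∀ K, IsIso ((Functor.whiskerLeft JA (BCSquare.bcD qA ft q v sq₂.w)).app K) := fun K =>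
      isIso_bcD_of_flat qA ft q v sq₂ _ (isQCohD_Td hPA (QCohLocal.isQCohD_Lpull pA K.property))
    NatIso.isIso_of_isIso_app _
  let bc₁ : J ⋙ DCoh.Rpush f ⋙ DCoh.Lpull pB ≅ J ⋙ DCoh.Lpull u ⋙ DCoh.Rpush w :=
    asIso (Functor.whiskerLeft J (BCSquare.bcD f pB w u sq₁.w))
  let bc₂ : JA ⋙ DCoh.Rpush qA ⋙ DCoh.Lpull ft ≅ JA ⋙ DCoh.Lpull v ⋙ DCoh.Rpush q :=
    asIso (Functor.whiskerLeft JA (BCSquare.bcD qA ft q v sq₂.w))
  haveI : DCoh.HasRpush (w ≫ qB) := Groth.Agent.Lib.DerivedOX.Exists.hasRpush _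
  let L : J ⋙ DCoh.Rpush f ⋙ (DCoh.Lpull pB ⋙ DCoh.LTensorMod PB ⋙ DCoh.Rpush qB) ≅
      J ⋙ DCoh.Lpull u ⋙ T ⋙ DCoh.Rpush q :=
    (Functor.associator J _ _).symm ≪≫ (Functor.associator _ _ _).symm ≪≫
      Functor.isoWhiskerRight (Functor.associator _ _ _ ≪≫ bc₁) _ ≪≫ Functor.associator _ _ _ ≪≫
      Functor.isoWhiskerLeft J (Functor.associator _ _ _ ≪≫
        Functor.isoWhiskerLeft (DCoh.Lpull u)
          (Functor.isoWhiskerLeft _ (Functor.isoWhiskerRight (ltensorIso PB hPB) _) ≪≫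
            (Functor.associator _ _ _).symm ≪≫
            Functor.isoWhiskerRight (projIsoL w hPB hM e).symm _ ≪≫ Functor.associator _ _ _ ≪≫
            Functor.isoWhiskerLeft T (PullComp.rpushCompIso w qB ≪≫ rpushCongr hq)))
  let R : J ⋙ (DCoh.Lpull pA ⋙ DCoh.LTensorMod PA ⋙ DCoh.Rpush qA) ⋙ DCoh.Lpull ft ≅
      J ⋙ DCoh.Lpull u ⋙ T ⋙ DCoh.Rpush q :=
    Functor.isoWhiskerLeft J (Functor.associator _ _ _ ≪≫
        Functor.isoWhiskerLeft (DCoh.Lpull pA) (Functor.associator _ _ _ ≪≫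
          Functor.isoWhiskerRight (ltensorIso PA hPA) _) ≪≫ (Functor.associator _ _ _).symm) ≪≫
      (Functor.associator J _ _).symm ≪≫ bc₂ ≪≫ Functor.associator J _ _ ≪≫
      Functor.isoWhiskerLeft J (Functor.associator _ _ _ ≪≫
        Functor.isoWhiskerLeft (DCoh.Lpull pA) ((Functor.associator _ _ _).symm ≪≫
          Functor.isoWhiskerRight (lpullTd v hPA hM (Iso.refl _)) _ ≪≫ Functor.associator _ _ _) ≪≫
        (Functor.associator _ _ _).symm ≪≫
        Functor.isoWhiskerRight (PullComp.lpullCompIso v pA ≪≫ lpullCongr hu) _)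
  exact ⟨L ≪≫ R.symm⟩

end Transpose

end

end Groth.Agent.H21.FMTrans
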