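import Groth.Agent.H21.FMTrans.Main
import Groth.Agent.H4.PicZero.Poincare
import Groth.Agent.H2.Rigid.GeomIrred
import Groth.Prelude.Def_AbDual

/-!
# Fourier–Mukai functors of abelian varieties and translations
-/

set_option autoImplicit false
set_option linter.style.haveILetI false
universe u

open CategoryTheory CategoryTheory.Limits MonoidalCategory CartesianMonoidalCategory MonObj AlgebraicGeometry
open Groth.Agent.H3

attribute [local instance] HasDerivedCategory.standard

namespace Groth.Agent.H21.FMTrans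

noncomputable local instance avLaw (Y : Scheme.{u}) : PicGrp.Law Y := Groth.Agent.Lib.TensorMod.Invertible.law Y

variable {k : Type u} [Field k]

/-- Right translation by a rational point is an isomorphism. -/
theorem isIso_transl (A : Over (Spec (CommRingCat.of k))) [GrpObj A]
    (x : 𝟙_ (Over (Spec (CommRingCat.of k))) ⟶ A) : IsIso ((𝟙 A * (toUnit A ≫ x)).left) := by
  haveI : IsIso (𝟙 A * (toUnit A ≫ x)) := by
    refine ⟨𝟙 A * (toUnit A ≫ x⁻¹), ?_, ?_⟩
    · rw [MonObj.comp_mul, Category.comp_id, ← Category.assoc, toUnit_unique (_ ≫ toUnit A) (toUnit A),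
        GrpObj.comp_inv, mul_inv_cancel_right]
    · rw [MonObj.comp_mul, Category.comp_id, ← Category.assoc, toUnit_unique (_ ≫ toUnit A) (toUnit A),
        GrpObj.comp_inv, inv_mul_cancel_right]
  exact inferInstanceAs (IsIso ((Over.forget _).map (𝟙 A * (toUnit A ≫ x))))

variable (A At : Over (Spec (CommRingCat.of k)))
  [GrpObj A] [IsProper A.hom] [Smooth A.hom] [GeometricallyConnected A.hom]
  [GrpObj At] [IsProper At.hom] [Smooth At.hom] [GeometricallyConnected At.hom]
  (φ : ∀ T : Over (Spec (CommRingCat.of k)), PicF.Cl (PicF.XT A.hom T) → (T ⟶ At))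
  (hφ : AbDual.IsDualAV Scheme.fppfPrecoverage A At φ)
  (P : (pullback A.hom At.hom).Modules) (hP : PicF.IsInvertible P)
  (hPξ : AbDual.IsPoincareCl A At φ (PicF.cl P))

include hφ hP hPξ

theorem translate_source (x : 𝟙_ (Over (Spec (CommRingCat.of k))) ⟶ A)
    [DCoh.HasLpull (pullback.fst A.hom At.hom)] [DCoh.HasLTensorMod P] [DCoh.HasRpush (pullback.snd A.hom At.hom)]
    [DCoh.HasLpull (𝟙 A * (toUnit A ≫ x)).left]
    [DCoh.HasLTensorMod ((Scheme.Modules.pullback (CartesianMonoidalCategory.lift (toUnit At ≫ x⁻¹) (𝟙 At)).left).obj P)] :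
    Nonempty (DCoh.Lpull (𝟙 A * (toUnit A ≫ x)).left ⋙ (DCoh.Lpull (pullback.fst A.hom At.hom) ⋙ DCoh.LTensorMod P ⋙ DCoh.Rpush (pullback.snd A.hom At.hom)) ≅
      (DCoh.Lpull (pullback.fst A.hom At.hom) ⋙ DCoh.LTensorMod P ⋙ DCoh.Rpush (pullback.snd A.hom At.hom)) ⋙
        DCoh.LTensorMod ((Scheme.Modules.pullback (CartesianMonoidalCategory.lift (toUnit At ≫ x⁻¹) (𝟙 At)).left).obj P)) := by
  haveI : GeometricallyIntegral A.hom := H2.Rigid.GeomIrred.geometricallyIntegral_of_smooth A.hom
  haveI : GeometricallyIntegral At.hom := H2.Rigid.GeomIrred.geometricallyIntegral_of_smooth At.hom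
  haveI : Flat (pullback.fst A.hom At.hom) := MorphismProperty.pullback_fst _ _ inferInstance
  haveI : Flat (pullback.snd A.hom At.hom) := MorphismProperty.pullback_snd _ _ inferInstance
  let a : PicLoc.PicSet (A ⊗ At).left := PicGrp.cls P hP
  have ha : AbDual.IsPoincareCl A At φ a.1 := hPξ
  let tA : A ⟶ A := 𝟙 A * (toUnit A ≫ x)
  let c : A ⊗ At ⟶ A := toUnit _ ≫ x
  let T : A ⊗ At ⟶ A ⊗ At := lift (fst A At ≫ tA) (snd A At)
  haveI : IsIso tA.left := isIso_transl A x
  haveI : IsIso ((Over.forget _).map tA) := ‹IsIso tA.left›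
  haveI : IsIso tA := isIso_of_reflects_iso tA (Over.forget _)
  haveI : IsIso T := ⟨lift (fst A At ≫ inv tA) (snd A At),
    by apply CartesianMonoidalCategory.hom_ext <;> simp [T],
    by apply CartesianMonoidalCategory.hom_ext <;> simp [T]⟩
  haveI : IsIso T.left := inferInstanceAs (IsIso ((Over.forget _).map T))
  have hT : fst A At ≫ tA = fst A At * c := by
    rw [MonObj.comp_mul, Category.comp_id, ← Category.assoc, toUnit_unique (_ ≫ toUnit A) (toUnit _)]
  let l : At ⟶ A ⊗ At := lift (toUnit At ≫ x⁻¹) (𝟙 At)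
  have hl : snd A At ≫ l = lift c⁻¹ (snd A At) := by
    rw [comp_lift, Category.comp_id, ← Category.assoc, toUnit_unique (_ ≫ toUnit At) (toUnit _),
      GrpObj.comp_inv]
  have key : PicCalc.ph T a * PicCalc.ph (snd A At) (PicCalc.ph l a) = a := by
    rw [← PicCalc.ph_comp, hl, show T = lift (fst A At * c) (snd A At) by rw [← hT],
      ← H4.PicZero.poincare_mul_left hφ ha, mul_inv_cancel_right, lift_fst_snd, PicCalc.ph_id]
  obtain ⟨e⟩ := (PicCalc.iso_iff (Y := (A ⊗ At).left)
    (PicCalc.cl_tensor (PicCalc.cl_pullback T (L := P) (a := a) rfl)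
      (PicCalc.cl_pullback (snd A At) (PicCalc.cl_pullback l (L := P) (a := a) rfl)))
    (b := a) (M := P) rfl).2 key
  exact transform_source (pullback.fst A.hom At.hom) (pullback.snd A.hom At.hom) P hP
    T.left tA.left (congrArg Over.Hom.left (lift_fst _ _))
    (congrArg Over.Hom.left (lift_snd _ _)) _ (PicLoc.isInvertible_pullback _ hP) e

theorem translate_target (x : 𝟙_ (Over (Spec (CommRingCat.of k))) ⟶ At)
    [DCoh.HasLpull (pullback.fst A.hom At.hom)] [DCoh.HasLTensorMod P] [DCoh.HasRpush (pullback.snd A.hom At.hom)]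
    [DCoh.HasLTensorMod ((Scheme.Modules.pullback (CartesianMonoidalCategory.lift (𝟙 A) (toUnit A ≫ x)).left).obj P)]
    [DCoh.HasLpull (𝟙 At * (toUnit At ≫ x)).left] :
    Nonempty (DCoh.LTensorMod ((Scheme.Modules.pullback (CartesianMonoidalCategory.lift (𝟙 A) (toUnit A ≫ x)).left).obj P) ⋙
        (DCoh.Lpull (pullback.fst A.hom At.hom) ⋙ DCoh.LTensorMod P ⋙ DCoh.Rpush (pullback.snd A.hom At.hom)) ≅
      (DCoh.Lpull (pullback.fst A.hom At.hom) ⋙ DCoh.LTensorMod P ⋙ DCoh.Rpush (pullback.snd A.hom At.hom)) ⋙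
        DCoh.Lpull (𝟙 At * (toUnit At ≫ x)).left) := by
  haveI : GeometricallyIntegral A.hom := H2.Rigid.GeomIrred.geometricallyIntegral_of_smooth A.hom
  haveI : GeometricallyIntegral At.hom := H2.Rigid.GeomIrred.geometricallyIntegral_of_smooth At.hom
  haveI : Flat (pullback.fst A.hom At.hom) := MorphismProperty.pullback_fst _ _ inferInstance
  haveI : Flat (pullback.snd A.hom At.hom) := MorphismProperty.pullback_snd _ _ inferInstance
  let a : PicLoc.PicSet (A ⊗ At).left := PicGrp.cls P hP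
  have ha : AbDual.IsPoincareCl A At φ a.1 := hPξ
  let tB : At ⟶ At := 𝟙 At * (toUnit At ≫ x)
  let c : A ⊗ At ⟶ At := toUnit _ ≫ x
  let S : A ⊗ At ⟶ A ⊗ At := lift (fst A At) (snd A At ≫ tB)
  haveI : IsIso tB.left := isIso_transl At x
  haveI : IsIso ((Over.forget _).map tB) := ‹IsIso tB.left›
  haveI : IsIso tB := isIso_of_reflects_iso tB (Over.forget _)
  haveI : IsIso S := ⟨lift (fst A At) (snd A At ≫ inv tB),
    by apply CartesianMonoidalCategory.hom_ext <;> simp [S],
    by apply CartesianMonoidalCategory.hom_ext <;> simp [S]⟩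
  haveI : IsIso S.left := inferInstanceAs (IsIso ((Over.forget _).map S))
  have hS : snd A At ≫ tB = snd A At * c := by
    rw [MonObj.comp_mul, Category.comp_id, ← Category.assoc, toUnit_unique (_ ≫ toUnit At) (toUnit _)]
  let l : A ⟶ A ⊗ At := lift (𝟙 A) (toUnit A ≫ x)
  have hl : fst A At ≫ l = lift (fst A At) c := by
    rw [comp_lift, Category.comp_id, ← Category.assoc, toUnit_unique (_ ≫ toUnit A) (toUnit _)]
  have key : PicCalc.ph (fst A At) (PicCalc.ph l a) * a = PicCalc.ph S a := by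
    rw [← PicCalc.ph_comp, hl, show S = lift (fst A At) (snd A At * c) by rw [← hS],
      H4.PicZero.poincare_mul_right hφ ha, lift_fst_snd, PicCalc.ph_id, mul_comm]
  obtain ⟨e⟩ := (PicCalc.iso_iff (Y := (A ⊗ At).left)
    (PicCalc.cl_tensor (PicCalc.cl_pullback (fst A At) (PicCalc.cl_pullback l (L := P) (a := a) rfl))
      (b := a) (M := P) rfl)
    (PicCalc.cl_pullback S (L := P) (a := a) rfl)).2 key
  exact transform_target (pullback.fst A.hom At.hom) (pullback.snd A.hom At.hom) P hP
    S.left tB.left (congrArg Over.Hom.left (lift_fst _ _))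
    (congrArg Over.Hom.left (lift_snd _ _)) _ (PicLoc.isInvertible_pullback _ hP) e

end Groth.Agent.H21.FMTrans
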