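import Groth.Agent.H21.FMTrans.Modules
import Groth.Agent.Lib.DerivedOX.PullPushAdj
import Groth.Agent.Lib.DerivedOX.LeftExists
import Groth.Agent.Lib.Cyc.FP.Stalk
import Mathlib.CategoryTheory.Functor.Derived.PointwiseLeftDerived

/-!
# Derived functors of exact tensor and pullback functors, and their exchange with `Rp_*`
-/

set_option autoImplicit false
set_option linter.style.haveILetI false
universe u

open CategoryTheory CategoryTheory.Limits AlgebraicGeometry

attribute [local instance] HasDerivedCategory.standard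

namespace Groth.Agent.H21.FMTrans

open Groth.Agent.Lib

noncomputable section

variable {X Y Z : Scheme.{u}}

section map

variable {F : X.Modules ⥤ Y.Modules} {G : Y.Modules ⥤ Z.Modules} {H : X.Modules ⥤ Z.Modules}
  [F.Additive] [G.Additive] [H.Additive]
  [PreservesFiniteLimits F] [PreservesFiniteColimits F] [PreservesFiniteLimits G]
  [PreservesFiniteColimits G] [PreservesFiniteLimits H] [PreservesFiniteColimits H]

/-- A composite of exact functors on derived categories. -/
def mapCompIso (e : F ⋙ G ≅ H) :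
    F.mapDerivedCategory ⋙ G.mapDerivedCategory ≅ H.mapDerivedCategory :=
  letI : Localization.Lifting DerivedCategory.Q (HomologicalComplex.quasiIso X.Modules (.up ℤ))
      ((F ⋙ G).mapHomologicalComplex (.up ℤ) ⋙ DerivedCategory.Q)
      (F.mapDerivedCategory ⋙ G.mapDerivedCategory) :=
    ⟨(Functor.associator _ _ _).symm ≪≫ Functor.isoWhiskerRight F.mapDerivedCategoryFactors _ ≪≫
      Functor.associator _ _ _ ≪≫ Functor.isoWhiskerLeft _ G.mapDerivedCategoryFactors ≪≫
      (Functor.associator _ _ _).symm⟩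
  Localization.liftNatIso DerivedCategory.Q (HomologicalComplex.quasiIso X.Modules (.up ℤ))
    ((F ⋙ G).mapHomologicalComplex (.up ℤ) ⋙ DerivedCategory.Q)
    (H.mapHomologicalComplex (.up ℤ) ⋙ DerivedCategory.Q) _ _
    (Functor.isoWhiskerRight (NatIso.mapHomologicalComplex e (.up ℤ)) _)

/-- An exact functor isomorphic to the identity. -/
def mapIdIso {F : X.Modules ⥤ X.Modules} [F.Additive] [PreservesFiniteLimits F]
    [PreservesFiniteColimits F] (e : F ≅ 𝟭 X.Modules) :
    F.mapDerivedCategory ≅ 𝟭 (DCoh.D X) :=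
  letI : Localization.Lifting DerivedCategory.Q (HomologicalComplex.quasiIso X.Modules (.up ℤ))
      ((𝟭 X.Modules).mapHomologicalComplex (.up ℤ) ⋙ DerivedCategory.Q) (𝟭 (DCoh.D X)) :=
    ⟨Functor.rightUnitor _ ≪≫ (Functor.leftUnitor _).symm ≪≫
      Functor.isoWhiskerRight (Functor.mapHomologicalComplexIdIso X.Modules (.up ℤ)).symm _⟩
  Localization.liftNatIso DerivedCategory.Q (HomologicalComplex.quasiIso X.Modules (.up ℤ))
    (F.mapHomologicalComplex (.up ℤ) ⋙ DerivedCategory.Q)
    ((𝟭 X.Modules).mapHomologicalComplex (.up ℤ) ⋙ DerivedCategory.Q) _ _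
    (Functor.isoWhiskerRight (NatIso.mapHomologicalComplex e (.up ℤ)) _)

/-- Isomorphic exact functors. -/
def mapIso {F' : X.Modules ⥤ Y.Modules} [F'.Additive] [PreservesFiniteLimits F']
    [PreservesFiniteColimits F'] (e : F ≅ F') : F.mapDerivedCategory ≅ F'.mapDerivedCategory :=
  Localization.liftNatIso DerivedCategory.Q (HomologicalComplex.quasiIso X.Modules (.up ℤ))
    (F.mapHomologicalComplex (.up ℤ) ⋙ DerivedCategory.Q)
    (F'.mapHomologicalComplex (.up ℤ) ⋙ DerivedCategory.Q) _ _
    (Functor.isoWhiskerRight (NatIso.mapHomologicalComplex e (.up ℤ)) _)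

/-- The left derived functor of an exact functor. -/
theorem isLeftDerived_mapDerivedCategory :
    F.mapDerivedCategory.IsLeftDerivedFunctor F.mapDerivedCategoryFactorsh.hom
      (HomotopyCategory.quasiIso X.Modules (.up ℤ)) :=
  Functor.isLeftDerivedFunctor_of_inverts _ _ F.mapDerivedCategoryFactorsh

end map

instance preservesFiniteColimits_pullback (f : X ⟶ Y) :
    PreservesFiniteColimits (Scheme.Modules.pullback f) :=
  haveI : PreservesColimitsOfSize.{0, 0} (Scheme.Modules.pullback f) :=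
    (Scheme.Modules.pullbackPushforwardAdjunction f).leftAdjoint_preservesColimits
  PreservesColimitsOfSize.preservesFiniteColimits.{0, 0} _

theorem preservesFiniteLimits_pullback (f : X ⟶ Y) [Flat f] :
    PreservesFiniteLimits (Scheme.Modules.pullback f) := by
  haveI : (Scheme.Modules.pullback f).Additive :=
    (Scheme.Modules.pullbackPushforwardAdjunction f).left_adjoint_additive
  haveI : (Scheme.Modules.pullback f).PreservesMonomorphisms :=
    ⟨fun g _ => Cyc.FP.Stalk.mono_pullback f g⟩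
  haveI : (Scheme.Modules.pullback f).PreservesHomology :=
    Functor.preservesHomology_of_preservesMonos_and_cokernels _
  exact Functor.preservesFiniteLimits_of_preservesHomology _

/-- The derived functor of a flat pullback. -/
abbrev Pd (f : X ⟶ Y) [Flat f] : DCoh.D Y ⥤ DCoh.D X :=
  haveI := preservesFiniteLimits_pullback f
  (Scheme.Modules.pullback f).mapDerivedCategory

/-- `Lf^*` for flat `f`. -/
def lpullIso (f : X ⟶ Y) [Flat f] [DCoh.HasLpull f] : DCoh.Lpull f ≅ Pd f :=
  haveI := preservesFiniteLimits_pullback f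
  haveI := isLeftDerived_mapDerivedCategory (F := Scheme.Modules.pullback f)
  Functor.leftDerivedUnique (W := HomotopyCategory.quasiIso Y.Modules (.up ℤ))
    (LF := DCoh.Lpull f) (LF' := Pd f)
    (α := (DerivedOX.PullPushAdj.pullK f).totalLeftDerivedCounit DerivedCategory.Qh
      (HomotopyCategory.quasiIso Y.Modules (.up ℤ)))
    (α'₂ := (Scheme.Modules.pullback f).mapDerivedCategoryFactorsh.hom)

/-- The derived functor of tensoring with an invertible module. -/
abbrev Td (M : X.Modules) (hM : PicF.IsInvertible M) : DCoh.D X ⥤ DCoh.D X :=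
  haveI := isEquivalence_tensor hM
  (DCoh.tensorRightMod M).mapDerivedCategory

/-- `- ⊗^L M` for invertible `M`. -/
def ltensorIso (M : X.Modules) (hM : PicF.IsInvertible M) [DCoh.HasLTensorMod M] :
    DCoh.LTensorMod M ≅ Td M hM :=
  haveI := isEquivalence_tensor hM
  haveI := isLeftDerived_mapDerivedCategory (F := DCoh.tensorRightMod M)
  Functor.leftDerivedUnique (W := HomotopyCategory.quasiIso X.Modules (.up ℤ))
    (LF := DCoh.LTensorMod M) (LF' := Td M hM)
    (α := (DCoh.tensorModKh M).totalLeftDerivedCounit DerivedCategory.Qh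
      (HomotopyCategory.quasiIso X.Modules (.up ℤ)))
    (α'₂ := (DCoh.tensorRightMod M).mapDerivedCategoryFactorsh.hom)

/-- Composition of flat pullbacks. -/
def pdComp (f : X ⟶ Y) (g : Y ⟶ Z) [Flat f] [Flat g] : Pd g ⋙ Pd f ≅ Pd (f ≫ g) :=
  haveI := preservesFiniteLimits_pullback f
  haveI := preservesFiniteLimits_pullback g
  haveI := preservesFiniteLimits_pullback (f ≫ g)
  mapCompIso (Scheme.Modules.pullbackComp f g)

def pdCongr {f g : X ⟶ Y} [Flat f] [Flat g] (h : f = g) : Pd f ≅ Pd g :=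
  haveI := preservesFiniteLimits_pullback f
  haveI := preservesFiniteLimits_pullback g
  mapIso (Scheme.Modules.pullbackCongr h)

def pdId : Pd (𝟙 X) ≅ 𝟭 (DCoh.D X) :=
  haveI := preservesFiniteLimits_pullback (𝟙 X)
  mapIdIso (Scheme.Modules.pullbackId X)

/-- Composition of tensor functors. -/
def tdComp {M M' : X.Modules} (hM : PicF.IsInvertible M) (hM' : PicF.IsInvertible M')
    {N : X.Modules} (hN : PicF.IsInvertible N) (e : CohB1.tensorMod M M' ≅ N) :
    Td M hM ⋙ Td M' hM' ≅ Td N hN :=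
  haveI := isEquivalence_tensor hM
  haveI := isEquivalence_tensor hM'
  haveI := isEquivalence_tensor hN
  mapCompIso (tensorCompIso M M' ≪≫ tensorCongr e)

def tdUnit {N : X.Modules} (hN : PicF.IsInvertible N) (e : N ≅ Coh.structureModule X) :
    Td N hN ≅ 𝟭 (DCoh.D X) :=
  haveI := isEquivalence_tensor hN
  mapIdIso (tensorCongr e ≪≫ tensorUnit)

/-- Pullback and tensor. -/
def pdTd (f : X ⟶ Y) [Flat f] {M : Y.Modules} (hM : PicF.IsInvertible M)
    {M' : X.Modules} (hM' : PicF.IsInvertible M') (e : (Scheme.Modules.pullback f).obj M ≅ M') :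
    Td M hM ⋙ Pd f ≅ Pd f ⋙ Td M' hM' :=
  haveI := preservesFiniteLimits_pullback f
  haveI := isEquivalence_tensor hM
  haveI := isEquivalence_tensor hM'
  haveI := Functor.additive_of_iso (F := Scheme.Modules.pullback f ⋙ DCoh.tensorRightMod M')
    (Iso.refl _)
  (mapCompIso (H := Scheme.Modules.pullback f ⋙ DCoh.tensorRightMod M')
      (pullTensor f M ≪≫ Functor.isoWhiskerLeft _ (tensorCongr e))) ≪≫
    (mapCompIso (H := Scheme.Modules.pullback f ⋙ DCoh.tensorRightMod M') (Iso.refl _)).symm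

/-- `- ⊗ M` is left adjoint to `- ⊗ M'` for inverse modules. -/
def tdAdj {M M' : X.Modules} (hM : PicF.IsInvertible M) (hM' : PicF.IsInvertible M')
    (e : CohB1.tensorMod M M' ≅ Coh.structureModule X) : Td M hM ⊣ Td M' hM' :=
  (CategoryTheory.Equivalence.mk (Td M hM) (Td M' hM')
    ((tdUnit (Groth.Agent.Lib.TensorMod.Invertible.isInvertible_tensorMod hM hM') e).symm ≪≫
      (tdComp hM hM' _ (Iso.refl _)).symm)
    (tdComp hM' hM (PicLoc.isInvertible_structureModule X)
      (TensorMod.Basic.comm M' M ≪≫ e) ≪≫ tdUnit _ (Iso.refl _))).toAdjunction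

/-- Pullbacks along inverse isomorphisms are adjoint. -/
def pdAdj (t : X ⟶ Y) [IsIso t] : Pd t ⊣ Pd (inv t) :=
  (CategoryTheory.Equivalence.mk (Pd t) (Pd (inv t))
    (pdId.symm ≪≫ pdCongr (IsIso.inv_hom_id t).symm ≪≫ (pdComp (inv t) t).symm)
    (pdComp t (inv t) ≪≫ pdCongr (IsIso.hom_inv_id t) ≪≫ pdId)).toAdjunction

variable (p : X ⟶ Y) [Flat p] [DCoh.HasRpush p]

/-- `Lp^* ⊣ Rp_*` in exact form. -/
def pdRpushAdj : Pd p ⊣ DCoh.Rpush p :=
  haveI := DerivedOX.LeftExists.hasLpull p
  (DerivedOX.PullPushAdj.derivedAdjunction p).ofNatIsoLeft (lpullIso p)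

/-- The projection formula for an invertible module. -/
def projIso {N : Y.Modules} (hN : PicF.IsInvertible N) {M : X.Modules} (hM : PicF.IsInvertible M)
    (e : (Scheme.Modules.pullback p).obj N ≅ M) :
    Td M hM ⋙ DCoh.Rpush p ≅ DCoh.Rpush p ⋙ Td N hN :=
  let N' := (Groth.Agent.Lib.TensorMod.Invertible.exists_inverse hN).choose
  have hN' : PicF.IsInvertible N' :=
    (Groth.Agent.Lib.TensorMod.Invertible.exists_inverse hN).choose_spec.1
  let ε : CohB1.tensorMod N N' ≅ Coh.structureModule Y :=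
    (Groth.Agent.Lib.TensorMod.Invertible.exists_inverse hN).choose_spec.2.some
  have hpN' : PicF.IsInvertible ((Scheme.Modules.pullback p).obj N') := PicLoc.isInvertible_pullback p hN'
  let ε' : CohB1.tensorMod ((Scheme.Modules.pullback p).obj N') M ≅ Coh.structureModule X :=
    TensorMod.Basic.tensorIso (Iso.refl _) e.symm ≪≫
      (TensorMod.Pullback.pullbackTensorIso p N' N).symm ≪≫
      (Scheme.Modules.pullback p).mapIso (TensorMod.Basic.comm N' N ≪≫ ε) ≪≫
      PicLoc.pullbackStructureIso p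
  ((pdRpushAdj p).comp (tdAdj hpN' hM ε')).rightAdjointUniq
    (((tdAdj hN' hN (TensorMod.Basic.comm N' N ≪≫ ε)).comp (pdRpushAdj p)).ofNatIsoLeft
      (pdTd p hN' hpN' (Iso.refl _)))

/-- Base change along automorphisms. -/
def shiftIso (S : X ⟶ X) [IsIso S] (t : Y ⟶ Y) [IsIso t] (h : S ≫ p = p ≫ t) :
    Pd S ⋙ DCoh.Rpush p ≅ DCoh.Rpush p ⋙ Pd t :=
  have h' : inv S ≫ p = p ≫ inv t := by
    rw [IsIso.inv_comp_eq, ← Category.assoc, h, Category.assoc, IsIso.hom_inv_id, Category.comp_id]
  let a₁ : Pd (inv S) ⊣ Pd S :=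
    (CategoryTheory.Equivalence.mk (Pd (inv S)) (Pd S)
      (pdId.symm ≪≫ pdCongr (IsIso.hom_inv_id S).symm ≪≫ (pdComp S (inv S)).symm)
      (pdComp (inv S) S ≪≫ pdCongr (IsIso.inv_hom_id S) ≪≫ pdId)).toAdjunction
  let a₂ : Pd (inv t) ⊣ Pd t :=
    (CategoryTheory.Equivalence.mk (Pd (inv t)) (Pd t)
      (pdId.symm ≪≫ pdCongr (IsIso.hom_inv_id t).symm ≪≫ (pdComp t (inv t)).symm)
      (pdComp (inv t) t ≪≫ pdCongr (IsIso.inv_hom_id t) ≪≫ pdId)).toAdjunction
  ((pdRpushAdj p).comp a₁).rightAdjointUniq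
    ((a₂.comp (pdRpushAdj p)).ofNatIsoLeft
      (pdComp p (inv t) ≪≫ pdCongr h'.symm ≪≫ (pdComp (inv S) p).symm))

end

end Groth.Agent.H21.FMTrans
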