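import Groth.Agent.H21.FMTrans.Derived

/-!
# Integral transforms and translations
-/

set_option autoImplicit false
set_option linter.style.haveILetI false
universe u

open CategoryTheory CategoryTheory.Limits AlgebraicGeometry

attribute [local instance] HasDerivedCategory.standard

namespace Groth.Agent.H21.FMTrans

open Groth.Agent.Lib

variable {W A B : Scheme.{u}} (p₁ : W ⟶ A) (p₂ : W ⟶ B) [Flat p₁] [Flat p₂]
  [DCoh.HasLpull p₁] [DCoh.HasRpush p₂]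

/-- The integral transform commutes translation on the source with twisting on the target. -/
theorem transform_source (P : W.Modules) (hP : PicF.IsInvertible P) [DCoh.HasLTensorMod P]
    (T : W ⟶ W) [IsIso T] (t : A ⟶ A) [IsIso t] [DCoh.HasLpull t]
    (h₁ : T ≫ p₁ = p₁ ≫ t) (h₂ : T ≫ p₂ = p₂) (N : B.Modules) (hN : PicF.IsInvertible N)
    [DCoh.HasLTensorMod N]
    (e : CohB1.tensorMod ((Scheme.Modules.pullback T).obj P) ((Scheme.Modules.pullback p₂).obj N) ≅ P) :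
    Nonempty (DCoh.Lpull t ⋙ (DCoh.Lpull p₁ ⋙ DCoh.LTensorMod P ⋙ DCoh.Rpush p₂) ≅
      (DCoh.Lpull p₁ ⋙ DCoh.LTensorMod P ⋙ DCoh.Rpush p₂) ⋙ DCoh.LTensorMod N) := by
  have hTP := PicLoc.isInvertible_pullback T hP
  have hpN := PicLoc.isInvertible_pullback p₂ hN
  let F := DCoh.Rpush p₂
  let a₁ : Pd T ⋙ Td P hP ≅ Td P hP ⋙ Pd T ⋙ Td _ hpN :=
    Functor.isoWhiskerLeft (Pd T) (tdComp hTP hpN hP e).symm ≪≫
      (Functor.associator _ _ _).symm ≪≫
      Functor.isoWhiskerRight (pdTd T hP hTP (Iso.refl _)).symm _ ≪≫ Functor.associator _ _ _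
  let a₂ : Pd T ⋙ F ≅ F :=
    shiftIso p₂ T (𝟙 B) (by rw [h₂, Category.comp_id]) ≪≫ Functor.isoWhiskerLeft F pdId ≪≫
      Functor.rightUnitor F
  let a₃ : Pd t ⋙ Pd p₁ ≅ Pd p₁ ⋙ Pd T :=
    pdComp p₁ t ≪≫ pdCongr h₁.symm ≪≫ (pdComp T p₁).symm
  exact ⟨Functor.isoWhiskerRight (lpullIso t) _ ≪≫
    Functor.isoWhiskerLeft (Pd t) (Functor.isoWhiskerRight (lpullIso p₁) _ ≪≫
      Functor.isoWhiskerLeft (Pd p₁) (Functor.isoWhiskerRight (ltensorIso P hP) F)) ≪≫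
    (Functor.associator _ _ _).symm ≪≫ Functor.isoWhiskerRight a₃ _ ≪≫ Functor.associator _ _ _ ≪≫
    Functor.isoWhiskerLeft (Pd p₁) ((Functor.associator _ _ _).symm ≪≫
      Functor.isoWhiskerRight a₁ F ≪≫ Functor.associator _ _ _ ≪≫
      Functor.isoWhiskerLeft (Td P hP) (Functor.associator _ _ _ ≪≫
        Functor.isoWhiskerLeft (Pd T) (projIso p₂ hN hpN (Iso.refl _)) ≪≫
        (Functor.associator _ _ _).symm ≪≫ Functor.isoWhiskerRight a₂ _)) ≪≫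
    Functor.isoWhiskerLeft (Pd p₁) (Functor.associator _ _ _).symm ≪≫
    (Functor.associator _ _ _).symm ≪≫
    Functor.isoWhiskerRight (Functor.isoWhiskerRight (lpullIso p₁).symm _ ≪≫
      Functor.isoWhiskerLeft _ (Functor.isoWhiskerRight (ltensorIso P hP).symm F)) _ ≪≫
    Functor.isoWhiskerLeft _ (ltensorIso N hN).symm⟩

/-- The integral transform commutes twisting on the source with translation on the target. -/
theorem transform_target (P : W.Modules) (hP : PicF.IsInvertible P) [DCoh.HasLTensorMod P]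
    (S : W ⟶ W) [IsIso S] (t : B ⟶ B) [IsIso t] [DCoh.HasLpull t]
    (h₁ : S ≫ p₁ = p₁) (h₂ : S ≫ p₂ = p₂ ≫ t) (M : A.Modules) (hM : PicF.IsInvertible M)
    [DCoh.HasLTensorMod M]
    (e : CohB1.tensorMod ((Scheme.Modules.pullback p₁).obj M) P ≅ (Scheme.Modules.pullback S).obj P) :
    Nonempty (DCoh.LTensorMod M ⋙ (DCoh.Lpull p₁ ⋙ DCoh.LTensorMod P ⋙ DCoh.Rpush p₂) ≅
      (DCoh.Lpull p₁ ⋙ DCoh.LTensorMod P ⋙ DCoh.Rpush p₂) ⋙ DCoh.Lpull t) := by
  have hSP := PicLoc.isInvertible_pullback S hP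
  have hpM := PicLoc.isInvertible_pullback p₁ hM
  let F := DCoh.Rpush p₂
  let a₃ : Pd p₁ ≅ Pd p₁ ⋙ Pd S := pdCongr h₁.symm ≪≫ (pdComp S p₁).symm
  let a₁ : Td M hM ⋙ Pd p₁ ⋙ Td P hP ≅ Pd p₁ ⋙ Td _ hSP :=
    (Functor.associator _ _ _).symm ≪≫
      Functor.isoWhiskerRight (pdTd p₁ hM hpM (Iso.refl _)) _ ≪≫ Functor.associator _ _ _ ≪≫
      Functor.isoWhiskerLeft (Pd p₁) (tdComp hpM hP hSP e)
  let a₂ : Pd p₁ ⋙ Td _ hSP ≅ Pd p₁ ⋙ Td P hP ⋙ Pd S :=
    Functor.isoWhiskerRight a₃ _ ≪≫ Functor.associator _ _ _ ≪≫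
      Functor.isoWhiskerLeft (Pd p₁) (pdTd S hP hSP (Iso.refl _)).symm
  exact ⟨Functor.isoWhiskerRight (ltensorIso M hM) _ ≪≫
    Functor.isoWhiskerLeft (Td M hM) (Functor.isoWhiskerRight (lpullIso p₁) _ ≪≫
      Functor.isoWhiskerLeft (Pd p₁) (Functor.isoWhiskerRight (ltensorIso P hP) F)) ≪≫
    Functor.isoWhiskerLeft _ (Functor.associator _ _ _).symm ≪≫ (Functor.associator _ _ _).symm ≪≫
    Functor.isoWhiskerRight (a₁ ≪≫ a₂) F ≪≫ Functor.associator _ _ _ ≪≫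
    Functor.isoWhiskerLeft (Pd p₁) (Functor.associator _ _ _ ≪≫
      Functor.isoWhiskerLeft (Td P hP) (shiftIso p₂ S t h₂) ≪≫ (Functor.associator _ _ _).symm) ≪≫
    (Functor.associator _ _ _).symm ≪≫
    Functor.isoWhiskerRight (Functor.isoWhiskerRight (lpullIso p₁).symm _ ≪≫
      Functor.isoWhiskerLeft _ (Functor.isoWhiskerRight (ltensorIso P hP).symm F)) _ ≪≫
    Functor.isoWhiskerLeft _ (lpullIso t).symm⟩

end Groth.Agent.H21.FMTrans
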