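import Groth.Agent.Lib.TensorMod.Invertible
import Groth.Prelude.Def_DDual2
import Groth.Prelude.Def_DCoh4

/-!
# Natural isomorphisms between tensor and pullback functors of modules
-/

set_option autoImplicit false
universe u

open CategoryTheory CategoryTheory.Limits AlgebraicGeometry MonoidalCategory

namespace Groth.Agent.H21.FMTrans

open Groth.Agent.Lib.TensorMod

variable {X Y : Scheme.{u}}

/-- `tensorRightMod M` is `tensorFunctor` with second argument fixed. -/
lemma tensorRightMod_map {N N' : X.Modules} (M : X.Modules) (f : N ⟶ N') :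
    (DCoh.tensorRightMod M).map f = Basic.tmap f (𝟙 M) := by
  refine congrArg DCoh.shP.map ?_
  exact (MonoidalCategory.tensorHom_id _ _).symm

/-- `(- ⊗ M) ⊗ M' ≅ - ⊗ (M ⊗ M')`. -/
noncomputable def tensorCompIso (M M' : X.Modules) :
    DCoh.tensorRightMod M ⋙ DCoh.tensorRightMod M' ≅
      DCoh.tensorRightMod (CohB1.tensorMod M M') :=
  NatIso.ofComponents (fun N => Basic.assoc N M M') fun {N N'} f => by
    rw [Functor.comp_map, tensorRightMod_map, tensorRightMod_map, tensorRightMod_map]
    have h := Basic.assoc_natural f (𝟙 M) (𝟙 M')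
    rw [Basic.tmap_id M M'] at h
    exact h

/-- Functoriality of `- ⊗ M` in `M`. -/
noncomputable def tensorCongr {M M' : X.Modules} (e : M ≅ M') :
    DCoh.tensorRightMod M ≅ DCoh.tensorRightMod M' :=
  NatIso.ofComponents (fun N => Basic.tensorIso (Iso.refl N) e) fun {N N'} f => by
    rw [tensorRightMod_map, tensorRightMod_map]
    refine (Basic.tmap_comp f (𝟙 _) (𝟙 M) e.hom).symm.trans (Eq.trans ?_ (Basic.tmap_comp (𝟙 _) f e.hom (𝟙 M')))
    simp

/-- `- ⊗ O ≅ id`. -/
noncomputable def tensorUnit : DCoh.tensorRightMod (Coh.structureModule X) ≅ 𝟭 X.Modules :=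
  NatIso.ofComponents (fun N => Basic.rightUnit N) fun {N N'} f => by
    rw [tensorRightMod_map]
    exact Basic.rightUnit_natural f

/-- Pullback commutes with `- ⊗ M`. -/
noncomputable def pullTensor (f : X ⟶ Y) (M : Y.Modules) :
    DCoh.tensorRightMod M ⋙ Scheme.Modules.pullback f ≅
      Scheme.Modules.pullback f ⋙ DCoh.tensorRightMod ((Scheme.Modules.pullback f).obj M) :=
  NatIso.ofComponents (fun N => Pullback.pullbackTensorIso f N M) fun {N N'} a => by
    rw [Functor.comp_map, Functor.comp_map, tensorRightMod_map, tensorRightMod_map]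
    have h := Pullback.delta_natural f a (𝟙 M)
    rw [CategoryTheory.Functor.map_id] at h
    exact h

/-- Tensoring with an invertible module is an equivalence. -/
theorem isEquivalence_tensor {M : X.Modules} (hM : PicF.IsInvertible M) :
    (DCoh.tensorRightMod M).IsEquivalence := by
  obtain ⟨M', -, ⟨e⟩⟩ := Invertible.exists_inverse hM
  exact (CategoryTheory.Equivalence.mk (DCoh.tensorRightMod M) (DCoh.tensorRightMod M')
    (tensorUnit.symm ≪≫ (tensorCongr e).symm ≪≫ (tensorCompIso M M').symm)
    (tensorCompIso M' M ≪≫ tensorCongr (Basic.comm M' M ≪≫ e) ≪≫ tensorUnit)).isEquivalence_functor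

end Groth.Agent.H21.FMTrans
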