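import Groth.Agent.H21.FMTrans.Transpose
import Groth.Agent.Lib.TensorMod.TensorInv

/-!
# Fibres of a Fourier–Mukai transform

`Lx^*Φ(F)` is the derived sections of the twist of `F`, and `Lφ_L^*Φ(L)` is `RΓ(A, L) ⊗ L⁻¹`.
-/

set_option autoImplicit false
set_option linter.style.haveILetI false
universe u

open CategoryTheory CategoryTheory.Limits MonoidalCategory CartesianMonoidalCategory MonObj AlgebraicGeometry
open Groth.Agent.H3 Groth.Agent.H4.PicZero Groth.Agent.Lib.H3

attribute [local instance] HasDerivedCategory.standard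

namespace Groth.Agent.H21.FMTrans

open Groth.Agent.Lib Groth.Agent.Lib.DerivedOX

attribute [local instance] Groth.Agent.Lib.DerivedOX.LeftExists.hasLpull
  Groth.Agent.Lib.DerivedOX.Exists.hasRpush

/-- Pulling back a transform along a point is pushing forward the twist. -/
theorem transform_fibre {A At WA S : Scheme.{u}} (a : A ⟶ S) (x : S ⟶ At) (v : A ⟶ WA) (pA : WA ⟶ A)
    (qA : WA ⟶ At) [Flat qA] [QuasiCompact qA] [QuasiSeparated qA] (hv : v ≫ pA = 𝟙 A)
    (sq : IsPullback v a qA x) (P : WA.Modules) (hP : PicF.IsInvertible P)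
    [DCoh.HasLpull pA] [DCoh.HasLTensorMod P] [DCoh.HasRpush qA]
    [DCoh.HasLTensorMod ((Scheme.Modules.pullback v).obj P)] [DCoh.HasRpush a] [DCoh.HasLpull x] :
    Nonempty (ObjectProperty.ι (DCoh.IsQCohD (X := A)) ⋙
        DCoh.LTensorMod ((Scheme.Modules.pullback v).obj P) ⋙ DCoh.Rpush a ≅
      ObjectProperty.ι (DCoh.IsQCohD (X := A)) ⋙ (DCoh.Lpull pA ⋙ DCoh.LTensorMod P ⋙ DCoh.Rpush qA) ⋙
        DCoh.Lpull x) := by
  let J := ObjectProperty.ι (DCoh.IsQCohD (X := A))
  have hM : PicF.IsInvertible ((Scheme.Modules.pullback v).obj P) := PicLoc.isInvertible_pullback v hP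
  let T := Td _ hM
  let JA := J ⋙ DCoh.Lpull pA ⋙ Td P hP
  haveI : IsIso (Functor.whiskerLeft JA (BCSquare.bcD qA x a v sq.w)) :=
    haveI : ∀ K, IsIso ((Functor.whiskerLeft JA (BCSquare.bcD qA x a v sq.w)).app K) := fun K =>
      isIso_bcD_of_flat qA x a v sq _ (isQCohD_Td hP (QCohLocal.isQCohD_Lpull pA K.property))
    NatIso.isIso_of_isIso_app _
  let bc : JA ⋙ DCoh.Rpush qA ⋙ DCoh.Lpull x ≅ JA ⋙ DCoh.Lpull v ⋙ DCoh.Rpush a :=
    asIso (Functor.whiskerLeft JA (BCSquare.bcD qA x a v sq.w))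
  let R : J ⋙ (DCoh.Lpull pA ⋙ DCoh.LTensorMod P ⋙ DCoh.Rpush qA) ⋙ DCoh.Lpull x ≅
      J ⋙ T ⋙ DCoh.Rpush a :=
    Functor.isoWhiskerLeft J (Functor.associator _ _ _ ≪≫
        Functor.isoWhiskerLeft (DCoh.Lpull pA) (Functor.associator _ _ _ ≪≫
          Functor.isoWhiskerRight (ltensorIso P hP) _) ≪≫ (Functor.associator _ _ _).symm) ≪≫
      (Functor.associator J _ _).symm ≪≫ bc ≪≫ Functor.associator J _ _ ≪≫
      Functor.isoWhiskerLeft J (Functor.associator _ _ _ ≪≫
        Functor.isoWhiskerLeft (DCoh.Lpull pA) ((Functor.associator _ _ _).symm ≪≫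
          Functor.isoWhiskerRight (lpullTd v hP hM (Iso.refl _)) _ ≪≫ Functor.associator _ _ _) ≪≫
        (Functor.associator _ _ _).symm ≪≫
        Functor.isoWhiskerRight (PullComp.lpullCompIso v pA ≪≫ lpullCongr hv ≪≫ lpullIso (𝟙 A) ≪≫ pdId) _ ≪≫
        Functor.leftUnitor _)
  exact ⟨Functor.isoWhiskerLeft J (Functor.isoWhiskerRight (ltensorIso _ hM) _) ≪≫ R.symm⟩

noncomputable local instance sectionsLaw (Y : Scheme.{u}) : PicGrp.Law Y :=
  Groth.Agent.Lib.TensorMod.Invertible.law Y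

variable {k : Type u} [Field k] {A At : Over (Spec (CommRingCat.of k))}
  [GrpObj A] [IsProper A.hom] [Smooth A.hom]
  [GrpObj At] [IsProper At.hom]

/-- `Lx^*Φ_P(F) ≅ RΓ(A, F ⊗ P_x)`. -/
theorem fibre_iso (P : (pullback A.hom At.hom).Modules) (hP : PicF.IsInvertible P)
    (x : 𝟙_ (Over (Spec (CommRingCat.of k))) ⟶ At)
    [DCoh.HasLpull (pullback.fst A.hom At.hom)] [DCoh.HasLTensorMod P] [DCoh.HasRpush (pullback.snd A.hom At.hom)]
    [DCoh.HasLTensorMod ((Scheme.Modules.pullback (CartesianMonoidalCategory.lift (𝟙 A) (toUnit A ≫ x)).left).obj P)]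
    [DCoh.HasRpush A.hom] [DCoh.HasLpull x.left] :
    Nonempty (ObjectProperty.ι (DCoh.IsQCohD (X := A.left)) ⋙
        DCoh.LTensorMod ((Scheme.Modules.pullback (CartesianMonoidalCategory.lift (𝟙 A) (toUnit A ≫ x)).left).obj P) ⋙
          DCoh.Rpush A.hom ≅
      ObjectProperty.ι (DCoh.IsQCohD (X := A.left)) ⋙
        (DCoh.Lpull (pullback.fst A.hom At.hom) ⋙ DCoh.LTensorMod P ⋙ DCoh.Rpush (pullback.snd A.hom At.hom)) ⋙
          DCoh.Lpull x.left) := by
  haveI : Flat (pullback.snd A.hom At.hom) := MorphismProperty.pullback_snd _ _ inferInstance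
  let v := CartesianMonoidalCategory.lift (𝟙 A) (toUnit A ≫ x)
  have h₁ : v.left ≫ pullback.fst A.hom At.hom = 𝟙 A.left := congrArg Over.Hom.left (lift_fst (𝟙 A) _)
  have h₂ : v.left ≫ pullback.snd A.hom At.hom = A.hom ≫ x.left := by
    refine (congrArg Over.Hom.left (lift_snd (𝟙 A) (toUnit A ≫ x))).trans ?_
    rw [Over.comp_left, Over.toUnit_left]
  refine transform_fibre (A := A.left) (WA := pullback A.hom At.hom) A.hom x.left v.left (pullback.fst A.hom At.hom) (pullback.snd A.hom At.hom)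
    h₁ ?_ P hP
  refine IsPullback.of_right ?_ h₂ (IsPullback.of_hasPullback A.hom At.hom)
  rw [h₁, Over.w x]
  haveI : IsIso (𝟙_ (Over (Spec (CommRingCat.of k)))).hom :=
    inferInstanceAs (IsIso (𝟙 (Spec (CommRingCat.of k))))
  exact IsPullback.of_horiz_isIso ⟨(Category.id_comp _).trans (Category.comp_id _).symm⟩

variable [GeometricallyConnected A.hom]

/-- `Lφ_L^*Φ_P(L) ≅ RΓ(A, L) ⊗ L⁻¹`. -/
theorem pull_phi_iso {φ : ∀ T : Over (Spec (CommRingCat.of k)), PicF.Cl (PicF.XT A.hom T) → (T ⟶ At)}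
    (hφ : AbDual.IsDualAV Scheme.fppfPrecoverage A At φ)
    (P : (pullback A.hom At.hom).Modules) (hP : PicF.IsInvertible P)
    (hPξ : AbDual.IsPoincareCl A At φ (PicF.cl P))
    (L : A.left.Modules) (hL : PicF.IsInvertible L) (L' : A.left.Modules)
    (hL' : Nonempty (CohB1.tensorMod L L' ≅ Coh.structureModule A.left))
    (Λ : (PicF.XT A.hom A).Modules)
    (hΛ : Nonempty (Λ ≅ CohB1.tensorMod (CohB1.tensorMod ((Scheme.Modules.pullback μ[A].left).obj L)
      ((Scheme.Modules.pullback (fst A A).left).obj L')) ((Scheme.Modules.pullback (snd A A).left).obj L')))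
    (hΛ0 : AbDual.IsPicZeroCl A.hom A (PicF.cl Λ))
    [DCoh.HasLpull (pullback.fst A.hom At.hom)] [DCoh.HasLTensorMod P] [DCoh.HasRpush (pullback.snd A.hom At.hom)]
    [DCoh.HasLpull (φ A (PicF.cl Λ)).left] [DCoh.HasRpush A.hom] [DCoh.HasLpull A.hom] [DCoh.HasLTensorMod L'] :
    Nonempty ((DCoh.Lpull (φ A (PicF.cl Λ)).left).obj
        ((DCoh.Lpull (pullback.fst A.hom At.hom) ⋙ DCoh.LTensorMod P ⋙ DCoh.Rpush (pullback.snd A.hom At.hom)).obj
          (DCoh.inD A.left L)) ≅
      (DCoh.LTensorMod L').obj ((DCoh.Lpull A.hom).obj ((DCoh.Rpush A.hom).obj (DCoh.inD A.left L)))) := by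
  haveI : GeometricallyIntegral A.hom := H2.Rigid.GeomIrred.geometricallyIntegral_of_smooth A.hom
  haveI : IsLocallyNoetherian A.left := LocallyOfFiniteType.isLocallyNoetherian A.hom
  have hL'i : PicF.IsInvertible L' :=
    TensorMod.TensorInv.isInvertible_of_tensor_iso (TensorMod.Basic.comm L' L ≪≫ hL'.some)
  let l : PicLoc.PicSet A.left := PicGrp.cls L hL
  let l' : PicLoc.PicSet A.left := PicGrp.cls L' hL'i
  have hll' : l * l' = 1 :=
    (PicCalc.iso_iff (PicCalc.cl_tensor (a := l) (b := l') rfl rfl)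
      (b := (1 : PicLoc.PicSet A.left)) PicGrp.one_val.symm).1 hL'
  let lam : PicLoc.PicSet (A ⊗ A).left :=
    PicCalc.ph μ[A] l * PicCalc.ph (fst A A) l' * PicCalc.ph (snd A A) l'
  have hcm : PicF.cl (CohB1.tensorMod (CohB1.tensorMod ((Scheme.Modules.pullback μ[A].left).obj L)
      ((Scheme.Modules.pullback (fst A A).left).obj L')) ((Scheme.Modules.pullback (snd A A).left).obj L')) =
      lam.1 :=
    PicCalc.cl_tensor (Y := (A ⊗ A).left)
      (PicCalc.cl_tensor (Y := (A ⊗ A).left) (PicCalc.cl_pullback μ[A] (a := l) rfl)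
        (PicCalc.cl_pullback (fst A A) (a := l') rfl))
      (PicCalc.cl_pullback (snd A A) (a := l') rfl)
  have hΛc : PicF.cl Λ = lam.1 := (Quot.sound hΛ : PicF.cl Λ = _).trans hcm
  obtain ⟨x, hx, hx0, hxr, hxφ⟩ := PhiInj.exists_poincare hφ hPξ
  let ψ : A ⟶ At := φ A (PicF.cl Λ)
  haveI : Subsingleton (𝟙_ (Over (Spec (CommRingCat.of k)))).left :=
    inferInstanceAs (Subsingleton (PrimeSpectrum k))
  haveI : Nonempty (𝟙_ (Over (Spec (CommRingCat.of k)))).left :=
    inferInstanceAs (Nonempty (PrimeSpectrum k))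
  have hone : ∀ c : PicLoc.PicSet A.left, PicCalc.ph (1 : A ⟶ A) c = 1 := fun c => by
    rw [Hom.one_def, PicCalc.ph_comp, PicCalc.eq_one_of_subsingleton (PicCalc.ph η[A] c), map_one]
  have hkey : PicCalc.ph (A ◁ ψ) x = lam := by
    refine PhiInj.eq_of_phi_eq hφ (isPicZeroCl_ph _ _ (whiskerLeft_snd _ _) hx0) (hΛc ▸ hΛ0) ?_ ?_ ?_
    · rw [PhiInj.rig_ph, hxr, map_one]
    · have e₁ : lift (1 : A ⟶ A) (𝟙 A) ≫ μ[A] = 𝟙 A :=
        (Hom.mul_def (1 : A ⟶ A) (𝟙 A)).symm.trans (_root_.one_mul _)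
      simp only [PhiInj.rig, lam, map_mul, ← PicCalc.ph_comp, e₁, lift_fst, lift_snd, hone,
        PicCalc.ph_id, _root_.mul_one]
      exact hll'
    · rw [hxφ]
      exact congrArg (φ A) hΛc
  have hΛi : PicF.IsInvertible Λ :=
    TensorMod.Invertible.isInvertible_of_iso hΛ.some.symm
      (TensorMod.Invertible.isInvertible_tensorMod
        (TensorMod.Invertible.isInvertible_tensorMod (PicLoc.isInvertible_pullback _ hL)
          (PicLoc.isInvertible_pullback _ hL'i)) (PicLoc.isInvertible_pullback _ hL'i))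
  obtain ⟨eΛ⟩ := (PicCalc.iso_iff (Y := (A ⊗ A).left)
    (PicCalc.cl_pullback (A ◁ ψ) (L := P) (a := x) hx.symm) (M := Λ) (b := lam) hΛc).2 hkey
  have hmi : PicF.IsInvertible ((Scheme.Modules.pullback μ[A].left).obj L) :=
    PicLoc.isInvertible_pullback _ hL
  have hsi : PicF.IsInvertible ((Scheme.Modules.pullback (snd A A).left).obj L') :=
    PicLoc.isInvertible_pullback _ hL'i
  obtain ⟨eT⟩ := (PicCalc.iso_iff (Y := (A ⊗ A).left)
    (PicCalc.cl_tensor (Y := (A ⊗ A).left) (PicCalc.cl_pullback (fst A A) (L := L) (a := l) rfl) hΛc)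
    (PicCalc.cl_tensor (Y := (A ⊗ A).left) (PicCalc.cl_pullback μ[A] (L := L) (a := l) rfl)
      (PicCalc.cl_pullback (snd A A) (L := L') (a := l') rfl))).2 (by
        have h : PicCalc.ph (fst A A) l * PicCalc.ph (fst A A) l' = 1 := by
          rw [← map_mul, hll', map_one]
        rw [show PicCalc.ph (fst A A) l * lam = PicCalc.ph μ[A] l *
          (PicCalc.ph (fst A A) l * PicCalc.ph (fst A A) l') * PicCalc.ph (snd A A) l' by
            simp only [lam, mul_assoc, mul_left_comm, mul_comm], h, _root_.mul_one])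
  -- the shear square
  let sh : A ⊗ A ≅ A ⊗ A :=
    { hom := lift μ[A] (snd A A)
      inv := lift (fst A A * (snd A A)⁻¹) (snd A A)
      hom_inv_id := by
        apply CartesianMonoidalCategory.hom_ext
        · rw [Category.assoc, lift_fst, MonObj.comp_mul, GrpObj.comp_inv, lift_fst, lift_snd,
            Category.id_comp]
          rw [show μ[A] = fst A A * snd A A by rw [Hom.mul_def, lift_fst_snd, Category.id_comp]]
          exact mul_inv_cancel_right (fst A A) (snd A A)
        · simp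
      inv_hom_id := by
        apply CartesianMonoidalCategory.hom_ext
        · rw [Category.assoc, lift_fst, Category.id_comp]
          show lift (fst A A * (snd A A)⁻¹) (snd A A) ≫ μ[A] = fst A A
          rw [← Hom.mul_def, inv_mul_cancel_right]
        · simp }
  haveI : Flat (pullback.fst A.hom A.hom) := MorphismProperty.pullback_fst _ _ inferInstance
  haveI : Flat (pullback.snd A.hom At.hom) := MorphismProperty.pullback_snd _ _ inferInstance
  haveI : IsIso sh.hom := sh.isIso_hom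
  haveI : IsIso sh.hom.left := inferInstanceAs (IsIso ((Over.forget _).map sh.hom))
  have hm : sh.hom.left ≫ pullback.fst A.hom A.hom = μ[A].left :=
    congrArg Over.Hom.left (lift_fst μ[A] (snd A A))
  have hs : sh.hom.left ≫ pullback.snd A.hom A.hom = pullback.snd A.hom A.hom :=
    congrArg Over.Hom.left (lift_snd μ[A] (snd A A))
  haveI : Flat μ[A].left := hm ▸ inferInstance
  have sq₁ : IsPullback μ[A].left (pullback.snd A.hom A.hom) A.hom A.hom :=
    IsPullback.of_iso_pullback ⟨(Over.w μ[A]).trans pullback.condition⟩ (asIso sh.hom.left) hm hs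
  have hu : (A ◁ ψ).left ≫ pullback.fst A.hom At.hom = pullback.fst A.hom A.hom :=
    congrArg Over.Hom.left (whiskerLeft_fst A ψ)
  have hv : (A ◁ ψ).left ≫ pullback.snd A.hom At.hom = pullback.snd A.hom A.hom ≫ ψ.left :=
    congrArg Over.Hom.left (whiskerLeft_snd A ψ)
  have sq₂ : IsPullback (A ◁ ψ).left (pullback.snd A.hom A.hom) (pullback.snd A.hom At.hom) ψ.left := by
    refine IsPullback.of_right ?_ hv (IsPullback.of_hasPullback A.hom At.hom)
    rw [hu, Over.w ψ]
    exact IsPullback.of_hasPullback A.hom A.hom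
  have hLq : DCoh.IsQCohD (DCoh.inD A.left L) := fun i => by
    by_cases hi : i = 0
    · subst hi
      exact (WayOut.Scheme.qc A.left).prop_of_iso
        ((DerivedCategory.singleFunctorCompHomologyFunctorIso A.left.Modules 0).app L).symm
        (TensorMod.QCohInv.isQCoh_of_isInvertible hL)
    · rcases lt_or_gt_of_ne hi with h | h
      · exact RpushQCoh.qc_of_isZero (DerivedCategory.isZero_of_isGE (DCoh.inD A.left L) 0 i h)
      · exact RpushQCoh.qc_of_isZero (DerivedCategory.isZero_of_isLE (DCoh.inD A.left L) 0 i h)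
  let G := (Td P hP).obj ((DCoh.Lpull (pullback.fst A.hom At.hom)).obj (DCoh.inD A.left L))
  haveI := isIso_bcD_of_flat (pullback.snd A.hom At.hom) ψ.left (pullback.snd A.hom A.hom) (A ◁ ψ).left
    sq₂ G (isQCohD_Td hP (QCohLocal.isQCohD_Lpull _ hLq))
  haveI := BCFlat.isIso_bcD A.hom A.hom (pullback.snd A.hom A.hom) μ[A].left sq₁.w sq₁ _ hLq
  haveI := preservesFiniteLimits_pullback (pullback.fst A.hom A.hom)
  haveI := preservesFiniteLimits_pullback μ[A].left
  haveI := isEquivalence_tensor hΛi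
  haveI := isEquivalence_tensor hsi
  let r := pullback.snd A.hom A.hom
  let eV : (DCoh.Lpull (A ◁ ψ).left).obj G ≅
      (Td _ hsi).obj ((DCoh.Lpull μ[A].left).obj (DCoh.inD A.left L)) :=
    (lpullTd (A ◁ ψ).left hP hΛi eΛ).app _ ≪≫
      (Td Λ hΛi).mapIso ((PullComp.lpullCompIso (A ◁ ψ).left (pullback.fst A.hom At.hom) ≪≫
          lpullCongr hu ≪≫ lpullIso (pullback.fst A.hom A.hom)).app _ ≪≫
        ((Scheme.Modules.pullback (pullback.fst A.hom A.hom)).mapDerivedCategorySingleFunctor 0).app L) ≪≫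
      ((DCoh.tensorRightMod Λ).mapDerivedCategorySingleFunctor 0).app _ ≪≫
      (DerivedCategory.singleFunctor _ 0).mapIso eT ≪≫
      (((DCoh.tensorRightMod _).mapDerivedCategorySingleFunctor 0).app _).symm ≪≫
      (Td _ hsi).mapIso ((((Scheme.Modules.pullback μ[A].left).mapDerivedCategorySingleFunctor 0).app L).symm ≪≫
        (lpullIso μ[A].left).symm.app _)
  exact ⟨(DCoh.Lpull ψ.left).mapIso ((DCoh.Rpush (pullback.snd A.hom At.hom)).mapIso
      ((ltensorIso P hP).app _)) ≪≫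
    asIso ((BCSquare.bcD (pullback.snd A.hom At.hom) ψ.left r (A ◁ ψ).left sq₂.w).app G) ≪≫
    (DCoh.Rpush r).mapIso eV ≪≫
    (projIsoL r hL'i hsi (Iso.refl _)).app _ ≪≫
    (Td L' hL'i).mapIso (asIso ((BCSquare.bcD A.hom A.hom r μ[A].left sq₁.w).app (DCoh.inD A.left L))).symm ≪≫
    (ltensorIso L' hL'i).symm.app _⟩

end Groth.Agent.H21.FMTrans
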