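import Groth.Agent.H21.FMTrans.BaseChange
import Groth.Agent.H21.FMTrans.AV
import Groth.Agent.Lib.H3.PhiInj
import Groth.Agent.H2.Rigid.GeomIrred
import Mathlib.AlgebraicGeometry.Morphisms.Proper

/-!
# Fourier–Mukai functors of abelian varieties and transposes
-/

set_option autoImplicit false
set_option linter.style.haveILetI false
universe u

open CategoryTheory CategoryTheory.Limits MonoidalCategory CartesianMonoidalCategory MonObj AlgebraicGeometry
open Groth.Agent.H3 Groth.Agent.H4.PicZero Groth.Agent.Lib.H3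

attribute [local instance] HasDerivedCategory.standard

namespace Groth.Agent.H21.FMTrans

noncomputable local instance transposeLaw (Y : Scheme.{u}) : PicGrp.Law Y :=
  Groth.Agent.Lib.TensorMod.Invertible.law Y

variable {k : Type u} [Field k] {A At B Bt : Over (Spec (CommRingCat.of k))}
  [GrpObj A] [IsProper A.hom] [Smooth A.hom] [GeometricallyConnected A.hom]
  [GrpObj At] [IsProper At.hom]
  [GrpObj B] [IsProper B.hom] [Smooth B.hom] [GeometricallyConnected B.hom]
  [GrpObj Bt] [IsProper Bt.hom] [Smooth Bt.hom]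

/-- A Fourier–Mukai functor after `Rf_*` is the Fourier–Mukai functor followed by `L(f^t)^*`. -/
theorem transpose_push
    {φA : ∀ T : Over (Spec (CommRingCat.of k)), PicF.Cl (PicF.XT A.hom T) → (T ⟶ At)}
    (hφA : AbDual.IsDualAV Scheme.fppfPrecoverage A At φA)
    {φB : ∀ T : Over (Spec (CommRingCat.of k)), PicF.Cl (PicF.XT B.hom T) → (T ⟶ Bt)}
    (hφB : AbDual.IsDualAV Scheme.fppfPrecoverage B Bt φB)
    (PA : (pullback A.hom At.hom).Modules) (hPA : PicF.IsInvertible PA)
    (hPAξ : AbDual.IsPoincareCl A At φA (PicF.cl PA))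
    (PB : (pullback B.hom Bt.hom).Modules) (hPB : PicF.IsInvertible PB)
    (hPBξ : AbDual.IsPoincareCl B Bt φB (PicF.cl PB))
    (f : A ⟶ B) [IsMonHom f] (ft : Bt ⟶ At) (hft : AbDual.IsTranspose f φA φB ft)
    [DCoh.HasLpull (pullback.fst A.hom At.hom)] [DCoh.HasLTensorMod PA] [DCoh.HasRpush (pullback.snd A.hom At.hom)]
    [DCoh.HasLpull (pullback.fst B.hom Bt.hom)] [DCoh.HasLTensorMod PB] [DCoh.HasRpush (pullback.snd B.hom Bt.hom)]
    [DCoh.HasRpush f.left] [DCoh.HasLpull ft.left] :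
    Nonempty (ObjectProperty.ι (DCoh.IsQCohD (X := A.left)) ⋙ DCoh.Rpush f.left ⋙
        (DCoh.Lpull (pullback.fst B.hom Bt.hom) ⋙ DCoh.LTensorMod PB ⋙ DCoh.Rpush (pullback.snd B.hom Bt.hom)) ≅
      ObjectProperty.ι (DCoh.IsQCohD (X := A.left)) ⋙
        (DCoh.Lpull (pullback.fst A.hom At.hom) ⋙ DCoh.LTensorMod PA ⋙ DCoh.Rpush (pullback.snd A.hom At.hom)) ⋙
          DCoh.Lpull ft.left) := by
  haveI : GeometricallyIntegral A.hom := H2.Rigid.GeomIrred.geometricallyIntegral_of_smooth A.hom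
  haveI : IsLocallyNoetherian Bt.left := LocallyOfFiniteType.isLocallyNoetherian Bt.hom
  obtain ⟨xA, hxA, hxA0, hxAr, hxAφ⟩ := PhiInj.exists_poincare hφA hPAξ
  obtain ⟨xB, hxB, hxB0, hxBr, hxBφ⟩ := PhiInj.exists_poincare hφB hPBξ
  have hkey : PicCalc.ph (A ◁ ft) xA = PicCalc.ph (f ▷ Bt) xB := by
    refine PhiInj.eq_of_phi_eq hφA (isPicZeroCl_ph _ _ (whiskerLeft_snd _ _) hxA0)
      (isPicZeroCl_ph (𝟙 Bt) _ (by rw [whiskerRight_snd, Category.comp_id]) hxB0) ?_ ?_ ?_
    · rw [PhiInj.rig_ph, hxAr, map_one]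
    · have e : lift (1 : Bt ⟶ A) (𝟙 Bt) ≫ f ▷ Bt = lift (1 : Bt ⟶ B) (𝟙 Bt) := by
        apply CartesianMonoidalCategory.hom_ext
        · rw [Category.assoc, whiskerRight_fst, lift_fst, lift_fst_assoc, MonObj.one_comp]
        · simp
      rw [PhiInj.rig, ← PicCalc.ph_comp, e]
      exact hxBr
    · rw [hxAφ, PicCalc.ph_val, ← bcMap_eq, hft Bt xB.1 hxB0]
      have h1 : φB Bt xB.1 = 𝟙 Bt := by
        have := hxBφ (𝟙 Bt)
        rwa [MonoidalCategory.whiskerLeft_id, PicCalc.ph_id] at this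
      rw [h1, Category.id_comp]
  obtain ⟨e⟩ := (PicCalc.iso_iff (Y := (A ⊗ Bt).left)
    (PicCalc.cl_pullback (f ▷ Bt) (L := PB) (a := xB) hxB.symm)
    (PicCalc.cl_pullback (A ◁ ft) (L := PA) (a := xA) hxA.symm)).2 hkey.symm
  haveI : Flat (pullback.fst B.hom Bt.hom) := MorphismProperty.pullback_fst _ _ inferInstance
  haveI : Flat (pullback.snd A.hom At.hom) := MorphismProperty.pullback_snd _ _ inferInstance
  haveI : IsProper f.left := by
    haveI : IsProper (f.left ≫ B.hom) := by rw [Over.w f]; infer_instance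
    exact IsProper.of_comp f.left B.hom
  have hu : (A ◁ ft).left ≫ pullback.fst A.hom At.hom = pullback.fst A.hom Bt.hom :=
    congrArg Over.Hom.left (whiskerLeft_fst A ft)
  have hv : (A ◁ ft).left ≫ pullback.snd A.hom At.hom = pullback.snd A.hom Bt.hom ≫ ft.left :=
    congrArg Over.Hom.left (whiskerLeft_snd A ft)
  have hw : (f ▷ Bt).left ≫ pullback.snd B.hom Bt.hom = pullback.snd A.hom Bt.hom :=
    congrArg Over.Hom.left (whiskerRight_snd f Bt)
  have hw' : (f ▷ Bt).left ≫ pullback.fst B.hom Bt.hom = pullback.fst A.hom Bt.hom ≫ f.left :=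
    congrArg Over.Hom.left (whiskerRight_fst f Bt)
  have sq₁ : IsPullback (pullback.fst A.hom Bt.hom) (f ▷ Bt).left f.left (pullback.fst B.hom Bt.hom) := by
    refine (IsPullback.of_right ?_ hw' (IsPullback.of_hasPullback B.hom Bt.hom).flip).flip
    rw [hw, Over.w f]
    exact (IsPullback.of_hasPullback A.hom Bt.hom).flip
  have sq₂ : IsPullback (A ◁ ft).left (pullback.snd A.hom Bt.hom) (pullback.snd A.hom At.hom) ft.left := by
    refine IsPullback.of_right ?_ hv (IsPullback.of_hasPullback A.hom At.hom)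
    rw [hu, Over.w ft]
    exact IsPullback.of_hasPullback A.hom Bt.hom
  exact transform_push f.left ft.left (pullback.fst A.hom At.hom) (pullback.snd A.hom At.hom)
    (pullback.fst B.hom Bt.hom) (pullback.snd B.hom Bt.hom) (pullback.fst A.hom Bt.hom)
    (pullback.snd A.hom Bt.hom) (f ▷ Bt).left (A ◁ ft).left hu hw sq₁ sq₂ PA hPA PB hPB e

end Groth.Agent.H21.FMTrans
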